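import Groth.Agent.HensSch.K145.ModTilde

/-!
# The functor `M ↦ M~` on affine Henselian spectra is fully faithful
-/

set_option autoImplicit false
set_option linter.unusedVariables false
universe u
open CategoryTheory AlgebraicGeometry TopologicalSpace Opposite TensorProduct

namespace K145.ModTilde

open K941.Sky K941.Sph K941.PullStalk K145.Away K145.ModSec HensSch

variable {A : Type u} [CommRing A] {X : LocallyRingedSpace.{u}} {π : X ⟶ HensSch.specLRS A}
  {I : Ideal A} (hX : HensSch.IsSph A I X π) (M : ModuleCat.{u} A)

theorem LPH.bijective_one {B : Type u} [CommRing B] [Algebra A B] (h : LPH I 1 B)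
    [hA : HenselianRing A I] : Function.Bijective (algebraMap A B) := by
  obtain ⟨k, hk, -⟩ := h.leq.ext A I (RingHom.id A) hA (by rw [Ideal.map_id]) isUnit_one
  have h1 : (algebraMap A B).comp k = RingHom.id B := by
    refine h.leq.ringHom_ext (I.map (algebraMap A B)) h.hens ?_ le_rfl
    rw [RingHom.comp_assoc, hk]
    rfl
  refine ⟨?_, ?_⟩
  · exact Function.LeftInverse.injective (g := k) fun a => congrArg (fun f : A →+* A => f a) hk
  · exact Function.RightInverse.surjective (g := k) fun a => congrArg (fun f : B →+* B => f a) h1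

theorem top_le_dOpen_one : (⊤ : Opens X) ≤ dOpen π 1 := fun x _ => by
  rw [mem_dOpen]
  exact fun h => (π.base x).2.ne_top ((Ideal.eq_top_iff_one _).mpr h)

theorem mres_bijective (F : SMod X) {V W : Opens X} (h : V ≤ W) (h' : W ≤ V) :
    Function.Bijective (mres π F h) := by
  refine ⟨Function.LeftInverse.injective (g := mres π F h') fun s => ?_,
    Function.RightInverse.surjective (g := mres π F h') fun s => ?_⟩
  · rw [mres_mres, mres_self]
  · rw [mres_mres, mres_self]

include hX in
theorem theta_bijective [HenselianRing A I] : Function.Bijective (theta π M) := by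
  have h1 : Function.Bijective (algebraMap A (OW π (dOpen π 1))) :=
    LPH.bijective_one (lph hX 1)
  let e : A ≃ₗ[A] OW π (dOpen π 1) := LinearEquiv.ofBijective (Algebra.linearMap A _) h1
  let e₁ : M ≃ₗ[A] OW π (dOpen π 1) ⊗[A] M := (TensorProduct.lid A M).symm ≪≫ₗ
    TensorProduct.congr e (LinearEquiv.refl A M)
  have h2 := sec_bijective hX M 1
  have h3 := mres_bijective (π := π) (sphTilde π M) (le_top : dOpen π 1 ≤ ⊤) top_le_dOpen_one
  have h4 : (cmp π (theta π M) (dOpen π 1)) ∘ e₁ = mres π (sphTilde π M) le_top ∘ theta π M := by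
    funext m
    change cmp π (theta π M) (dOpen π 1) (algebraMap A _ 1 ⊗ₜ m) = _
    rw [cmp_tmul, map_one, one_smul]
    rfl
  have h5 : Function.Bijective (mres π (sphTilde π M) (le_top : dOpen π 1 ≤ ⊤) ∘ theta π M) := by
    rw [← h4]
    exact h2.comp e₁.bijective
  exact (Function.Bijective.of_comp_iff' h3 _).mp h5

variable (π) in
/-- The adjunction. -/
noncomputable def adj : sphTildeFunctor π ⊣ pushMod π ⋙ moduleSpecΓFunctor (R := CommRingCat.of A) :=
  (tilde.adjunction (R := CommRingCat.of A)).comp (pullPushAdj π)

include hX in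
theorem isIso_unit [HenselianRing A I] : IsIso (adj π).unit := by
  rw [NatTrans.isIso_iff_isIso_app]
  intro M
  rw [ConcreteCategory.isIso_iff_bijective]
  exact theta_bijective hX M

include hX in
theorem full_faithful [HenselianRing A I] :
    (HensSch.sphTildeFunctor π).Full ∧ (HensSch.sphTildeFunctor π).Faithful := by
  have := isIso_unit hX
  exact ⟨(adj π).fullyFaithfulLOfIsIsoUnit.full, (adj π).fullyFaithfulLOfIsIsoUnit.faithful⟩

end K145.ModTilde
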