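import Groth.Agent.HensSch.K145.ModFF

/-!
# Direct image of `N~` along a finite morphism of affine Henselian spectra
-/

set_option autoImplicit false
set_option linter.unusedVariables false
universe u
open CategoryTheory AlgebraicGeometry TopologicalSpace Opposite TensorProduct

namespace K145.ModPush

open K941.Sky K941.Sph K941.PullStalk K145.Away K145.ModSec K145.ModTilde HensSch

section Alg

theorem LPH.bijective {R : Type u} [CommRing R] {J : Ideal R} {g : R} {P Q : Type u} [CommRing P]
    [CommRing Q] [Algebra R P] [Algebra R Q] (hP : LPH J g P) (hQ : LPH J g Q) (k : P →ₐ[R] Q) :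
    Function.Bijective k := by
  obtain ⟨l, hl, -⟩ := hQ.leq.ext P (J.map (algebraMap R P)) (algebraMap R P) hP.hens le_rfl
    hP.leq.unit
  have h1 : l.comp k.toRingHom = RingHom.id P := by
    refine hP.leq.ringHom_ext (J.map (algebraMap R P)) hP.hens ?_ le_rfl
    rw [RingHom.comp_assoc]
    have : k.toRingHom.comp (algebraMap R P) = algebraMap R Q := k.comp_algebraMap
    rw [this, hl]
    rfl
  have h2 : k.toRingHom.comp l = RingHom.id Q := by
    refine hQ.leq.ringHom_ext (J.map (algebraMap R Q)) hQ.hens ?_ le_rfl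
    rw [RingHom.comp_assoc, hl]
    exact k.comp_algebraMap
  refine ⟨?_, ?_⟩
  · exact Function.LeftInverse.injective (g := l) fun a => congrArg (fun f : P →+* P => f a) h1
  · exact Function.RightInverse.surjective (g := l) fun a => congrArg (fun f : Q →+* Q => f a) h2

variable {A B S T : Type u} [CommRing A] [CommRing B] [CommRing S] [CommRing T] [Algebra A B]
  [Algebra A S] [Algebra B T] [Algebra A T] [IsScalarTower A B T]

/-- Base change of modules along compatible maps. -/
theorem bijective_tensor (φ : S →ₐ[A] T) {f : A} {I : Ideal A} (hS : LPH I f S)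
    (hT : LPH (I.map (algebraMap A B)) (algebraMap A B f) T) [Module.Finite A B]
    (N : Type u) [AddCommGroup N] [Module B N] [Module A N] [IsScalarTower A B N]
    (ψ : S ⊗[A] N →+ T ⊗[B] N) (hψ : ∀ s n, ψ (s ⊗ₜ n) = φ s ⊗ₜ n) : Function.Bijective ψ := by
  have h1 : LPH (I.map (algebraMap A B)) (algebraMap A B f) (B ⊗[A] S) := hS.baseChange_integral B
  let k : B ⊗[A] S →ₐ[B] T := Algebra.TensorProduct.lift (Algebra.ofId B T) φ
    (fun _ _ => Commute.all _ _)
  have hk : Function.Bijective k := LPH.bijective h1 hT k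
  let e : B ⊗[A] S ≃ₗ[B] T := LinearEquiv.ofBijective k.toLinearMap hk
  let e₁ : S ⊗[A] N ≃ₗ[A] N ⊗[A] S := TensorProduct.comm A S N
  let e₂ : N ⊗[B] (B ⊗[A] S) ≃ₗ[B] N ⊗[A] S := AlgebraTensorModule.cancelBaseChange A B B N S
  let e₃ : N ⊗[B] (B ⊗[A] S) ≃ₗ[B] N ⊗[B] T := TensorProduct.congr (LinearEquiv.refl B N) e
  let e₄ : N ⊗[B] T ≃ₗ[B] T ⊗[B] N := TensorProduct.comm B N T
  have h2 : ⇑ψ = e₄ ∘ e₃ ∘ e₂.symm ∘ e₁ := by
    funext z
    change ψ z = e₄ (e₃ (e₂.symm (e₁ z)))
    induction z with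
    | zero => simp only [map_zero]
    | add x y hx hy => simp only [map_add, hx, hy]
    | tmul s n =>
      rw [hψ]
      have h3 : e₂.symm (e₁ (s ⊗ₜ n)) = n ⊗ₜ (1 ⊗ₜ s) := by
        rw [LinearEquiv.symm_apply_eq]
        change n ⊗ₜ[A] s = AlgebraTensorModule.cancelBaseChange A B B N S (n ⊗ₜ (1 ⊗ₜ s))
        rw [AlgebraTensorModule.cancelBaseChange_tmul, one_smul]
      rw [h3]
      change _ = (k (1 ⊗ₜ s)) ⊗ₜ[B] n
      congr 1
      change _ = Algebra.TensorProduct.lift (Algebra.ofId B T) φ (fun _ _ => Commute.all _ _)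
        (1 ⊗ₜ s)
      rw [Algebra.TensorProduct.lift_tmul, map_one, one_mul]
  rw [h2]
  exact e₄.bijective.comp (e₃.bijective.comp (e₂.symm.bijective.comp e₁.bijective))

end Alg

section Geo

/-- the global section attached to `a` -/
noncomputable def gl {A : Type u} [CommRing A] {X : LocallyRingedSpace.{u}} (π : X ⟶ specLRS A)
    (a : A) : X.presheaf.obj (op ⊤) :=
  LocallyRingedSpace.Γ.map π.op ((Scheme.ΓSpecIso (CommRingCat.of A)).inv a)

theorem algebraMap_eq_res {A : Type u} [CommRing A] {X : LocallyRingedSpace.{u}}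
    (π : X ⟶ specLRS A) (W : Opens X) (a : A) :
    algebraMap A (OW π W) a = X.presheaf.map (homOfLE le_top : W ⟶ ⊤).op (gl π a) := by
  refine (ConcreteCategory.congr_hom (X.presheaf.map_comp
    ((Opens.map π.base).map (homOfLE (le_top : (⊤ : Opens (PrimeSpectrum A)) ≤ ⊤))).op
    (homOfLE le_top : W ⟶ (Opens.map π.base).obj ⊤).op)
    (π.c.app (op ⊤) ((Scheme.ΓSpecIso (CommRingCat.of A)).inv a))).symm

variable {A B : Type u} [CommRing A] [CommRing B] [Algebra A B] {X Y : LocallyRingedSpace.{u}}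
  {πA : X ⟶ specLRS A} {πB : Y ⟶ specLRS B} {φ : Y ⟶ X}
  (hφ : φ ≫ πA = πB ≫ (Spec.map (CommRingCat.ofHom (algebraMap A B))).toLRSHom)

include hφ

theorem gl_map (a : A) : φ.c.app (op ⊤) (gl πA a) = gl πB (algebraMap A B a) := by
  have h1 := congrArg (fun k => LocallyRingedSpace.Γ.map k.op) hφ
  simp only [op_comp, Functor.map_comp] at h1
  have h2 := ConcreteCategory.congr_hom h1 ((Scheme.ΓSpecIso (CommRingCat.of A)).inv a)
  have h3 := ConcreteCategory.congr_hom
    (Scheme.ΓSpecIso_inv_naturality (CommRingCat.ofHom (algebraMap A B))) a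
  refine h2.trans ?_
  exact congrArg (LocallyRingedSpace.Γ.map πB.op) h3.symm

theorem dOpen_eq (f : A) :
    (Opens.map φ.base).obj (dOpen πA f) = dOpen πB (algebraMap A B f) := by
  ext y
  have h1 : πA.base (φ.base y) =
      (Spec.map (CommRingCat.ofHom (algebraMap A B))).toLRSHom.base (πB.base y) :=
    congrArg (fun k : Y ⟶ specLRS A => k.base y) hφ
  change f ∉ (πA.base (φ.base y)).asIdeal ↔ _
  rw [h1]
  rfl

omit [Algebra A B] hφ in
variable (πA πB φ) in
/-- The map on sections. -/
noncomputable def shR (W : Opens X) : OW πA W →+* OW πB ((Opens.map φ.base).obj W) :=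
  (φ.c.app (op W)).hom

theorem shR_algebraMap (W : Opens X) (a : A) :
    shR πA πB φ W (algebraMap A (OW πA W) a) =
      algebraMap B (OW πB ((Opens.map φ.base).obj W)) (algebraMap A B a) := by
  rw [algebraMap_eq_res πB, ← gl_map hφ, algebraMap_eq_res πA]
  exact ConcreteCategory.congr_hom (φ.c.naturality (homOfLE le_top : W ⟶ ⊤).op) (gl πA a)

variable (πA πB φ) in
/-- The map on sections. -/
noncomputable def shAlg (W : Opens X) :
    letI : Algebra A (OW πB ((Opens.map φ.base).obj W)) :=
      ((algebraMap B (OW πB ((Opens.map φ.base).obj W))).comp (algebraMap A B)).toAlgebra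
    OW πA W →ₐ[A] OW πB ((Opens.map φ.base).obj W) :=
  letI : Algebra A (OW πB ((Opens.map φ.base).obj W)) :=
      ((algebraMap B (OW πB ((Opens.map φ.base).obj W))).comp (algebraMap A B)).toAlgebra
  { shR πA πB φ W with commutes' := fun a => shR_algebraMap hφ W a }

omit [Algebra A B] hφ in
variable (πA πB φ) in
/-- Sections of the direct image. -/
noncomputable def ps (F : SMod Y) (W : Opens X) :
    MW πA ((pushMod φ).obj F) W ≃+ MW πB F ((Opens.map φ.base).obj W) := AddEquiv.refl _

omit [Algebra A B] hφ in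
theorem ps_smul (F : SMod Y) (W : Opens X) (s : OW πA W) (m : MW πA ((pushMod φ).obj F) W) :
    ps πA πB φ F W (s • m) = shR πA πB φ W s • ps πA πB φ F W m := rfl

omit [Algebra A B] hφ in
theorem ps_mres (F : SMod Y) {V W : Opens X} (h : V ≤ W) (m : MW πA ((pushMod φ).obj F) W) :
    ps πA πB φ F V (mres πA _ h m) =
      mres πB F (show (Opens.map φ.base).obj V ≤ (Opens.map φ.base).obj W from
        leOfHom ((Opens.map φ.base).map (homOfLE h))) (ps πA πB φ F W m) := rfl

theorem ps_smul' (F : SMod Y) (W : Opens X) (a : A) (m : MW πA ((pushMod φ).obj F) W) :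
    ps πA πB φ F W (a • m) = algebraMap A B a • ps πA πB φ F W m := by
  rw [← algebraMap_smul (OW πA W) a, ps_smul, shR_algebraMap hφ, algebraMap_smul]

variable (F : SMod Y) {N : Type u} [AddCommGroup N] [Module B N] (θ : N →ₗ[B] MW πB F ⊤)
  [Module A N] [IsScalarTower A B N]

/-- The `A`-linear map to the sections of the direct image. -/
noncomputable def thP : N →ₗ[A] MW πA ((pushMod φ).obj F) ⊤ where
  toFun n := (ps πA πB φ F ⊤).symm (θ n)
  map_add' m n := (congrArg _ (map_add θ m n)).trans (map_add (ps πA πB φ F ⊤).symm _ _)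
  map_smul' a n := by
    rw [AddEquiv.symm_apply_eq, RingHom.id_apply, ps_smul' hφ, AddEquiv.apply_symm_apply,
      ← algebraMap_smul B a n]
    exact map_smul θ (algebraMap A B a) n

theorem ps_thP (n : N) : ps πA πB φ F ⊤ (thP hφ F θ n) = θ n := rfl

variable (I : Ideal A) [Module.Finite A B] (hX : IsSph A I X πA)
  (hY : IsSph B (I.map (algebraMap A B)) Y πB)
  (hθ : ∀ y, Function.Bijective (cmpSt πB θ y))

include hX hY hθ in
theorem cmp_push_bijective (f : A) :
    Function.Bijective (cmp πA (thP hφ F θ) (dOpen πA f)) := by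
  have h1 : Function.Bijective (cmp πB θ ((Opens.map φ.base).obj (dOpen πA f))) := by
    rw [dOpen_eq hφ f]
    exact cmp_bijective hY θ hθ _
  have h2 : LPH (I.map (algebraMap A B)) (algebraMap A B f)
      (OW πB ((Opens.map φ.base).obj (dOpen πA f))) := by
    rw [dOpen_eq hφ f]
    exact lph hY _
  let W := (Opens.map φ.base).obj (dOpen πA f)
  let _ : Algebra A (OW πB W) := ((algebraMap B (OW πB W)).comp (algebraMap A B)).toAlgebra
  have : IsScalarTower A B (OW πB W) := IsScalarTower.of_algebraMap_eq fun _ => rfl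
  let σ : OW πA (dOpen πA f) →ₐ[A] OW πB W := shAlg πA πB φ hφ (dOpen πA f)
  let ψ : OW πA (dOpen πA f) ⊗[A] N →+ OW πB W ⊗[B] N :=
    TensorProduct.liftAddHom
      { toFun := fun s =>
          { toFun := fun n => σ s ⊗ₜ n
            map_zero' := by rw [TensorProduct.tmul_zero]
            map_add' := fun _ _ => by rw [TensorProduct.tmul_add] }
        map_zero' := by ext n; simp
        map_add' := fun _ _ => by ext n; simp [TensorProduct.add_tmul] }
      (fun a s n => by
        change σ (a • s) ⊗ₜ[B] n = σ s ⊗ₜ[B] (a • n)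
        rw [map_smul, ← algebraMap_smul B a n, ← algebraMap_smul B a (σ s),
          TensorProduct.smul_tmul])
  have h3 := bijective_tensor σ (lph hX f) h2 N ψ (fun s n => rfl)
  have h4 : (ps πA πB φ F (dOpen πA f)) ∘ (cmp πA (thP hφ F θ) (dOpen πA f)) =
      cmp πB θ W ∘ ψ := by
    funext z
    change ps πA πB φ F (dOpen πA f) (cmp πA (thP hφ F θ) (dOpen πA f) z) = cmp πB θ W (ψ z)
    induction z with
    | zero => rw [map_zero, map_zero, map_zero, map_zero]
    | add x y hx hy => rw [map_add, map_add, map_add, map_add, hx, hy]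
    | tmul s n =>
      rw [cmp_tmul, ps_smul, ps_mres, ps_thP]
      exact (cmp_tmul πB θ W _ _).symm
  have h5 : Function.Bijective
      ((ps πA πB φ F (dOpen πA f)) ∘ (cmp πA (thP hφ F θ) (dOpen πA f))) := by
    rw [h4]
    exact h1.comp h3
  exact (Function.Bijective.of_comp_iff' (ps πA πB φ F (dOpen πA f)).bijective _).mp h5

end Geo

section Desc

variable {A : Type u} [CommRing A] {X : LocallyRingedSpace.{u}} {π : X ⟶ specLRS A}

theorem mapTop_smul (G : SMod X) (a : A) (m : MW π G ⊤) :
    (HSMul.hSMul (α := A) (β := ((pushMod π ⋙ moduleSpecΓFunctor (R := CommRingCat.of A)).obj G)) a m) =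
      (a • m : MW π G ⊤) := by
  rw [← algebraMap_smul (OW π ⊤) a m]
  exact congrArg (fun s : OW π ⊤ => s • m) (c_app_eq π a)

/-- The morphism out of `M~` given by a linear map to global sections. -/
theorem exists_desc (M : ModuleCat.{u} A) (G : SMod X) (θ : M →ₗ[A] MW π G ⊤) :
    ∃ k : sphTilde π M ⟶ G, ∀ m, app k ⊤ (theta π M m) = θ m := by
  let t : M ⟶ (pushMod π ⋙ moduleSpecΓFunctor (R := CommRingCat.of A)).obj G :=
    ModuleCat.ofHom (Y := ((pushMod π ⋙ moduleSpecΓFunctor (R := CommRingCat.of A)).obj G))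
      { toFun := fun m => θ m
        map_add' := map_add θ
        map_smul' := fun a m => (map_smul θ a m).trans (mapTop_smul G a (θ m)).symm }
  refine ⟨((adj π).homEquiv M G).symm t, fun m => ?_⟩
  have h := ((adj π).homEquiv M G).apply_symm_apply t
  rw [Adjunction.homEquiv_unit] at h
  exact LinearMap.congr_fun (congrArg ModuleCat.Hom.hom h) m

variable (π) in
/-- The map on sections. -/
noncomputable def appW {F G : SMod X} (k : F ⟶ G) (W : Opens X) : MW π F W →ₗ[OW π W] MW π G W :=
  app k W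

theorem appW_mres {F G : SMod X} (k : F ⟶ G) {V W : Opens X} (h : V ≤ W) (m : MW π F W) :
    appW π k V (mres π F h m) = mres π G h (appW π k W m) :=
  app_res k (homOfLE h) m

theorem appW_cmp {F G : SMod X} (k : F ⟶ G) {M : Type u} [AddCommGroup M] [Module A M]
    (θ : M →ₗ[A] MW π F ⊤) (θ' : M →ₗ[A] MW π G ⊤) (h : ∀ m, appW π k ⊤ (θ m) = θ' m)
    (W : Opens X) (z : OW π W ⊗[A] M) : appW π k W (cmp π θ W z) = cmp π θ' W z := by
  induction z with
  | zero => simp only [map_zero]
  | add x y hx hy => simp only [map_add, hx, hy]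
  | tmul s m => rw [cmp_tmul, cmp_tmul, map_smul, appW_mres, h]

/-- Isomorphisms can be checked on distinguished opens. -/
theorem isIso_of_appW {I : Ideal A} (hX : IsSph A I X π) {F G : SMod X} (k : F ⟶ G)
    (h : ∀ f : A, Function.Bijective (appW π k (dOpen π f))) : IsIso k := by
  rw [K941.StalkExact.isIso_iff]
  intro x
  constructor
  · rw [injective_iff_map_eq_zero]
    intro t ht
    obtain ⟨W, hW, s, rfl⟩ := exists_mger π F (x := x) t
    obtain ⟨g, hg, hgW⟩ := exists_dOpen_le hX W x hW
    have h1 : mger π G hW (appW π k W s) = 0 := (stalkMap_germ k x W hW s).symm.trans ht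
    obtain ⟨V, hV, hxV, h2⟩ := mger_zero π G hW _ h1
    obtain ⟨g, hg, hgV⟩ := exists_dOpen_le hX V x hxV
    have h3 : appW π k (dOpen π g) (mres π F (hgV.trans hV) s) = 0 := by
      rw [appW_mres, ← mres_mres π G hV hgV, h2, map_zero]
    have h4 : mres π F (hgV.trans hV) s = 0 := (h g).1 (by rw [h3, map_zero])
    change mger π F hW s = 0
    rw [← mger_mres π F (hgV.trans hV) hg, h4, map_zero]
  · intro t
    obtain ⟨W, hW, s, rfl⟩ := exists_mger π G (x := x) t
    obtain ⟨g, hg, hgW⟩ := exists_dOpen_le hX W x hW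
    obtain ⟨r, hr⟩ := (h g).2 (mres π G hgW s)
    refine ⟨mger π F hg r, ?_⟩
    refine (stalkMap_germ k x (dOpen π g) hg r).trans ?_
    change mger π G hg (appW π k _ r) = mger π G hW s
    rw [hr, mger_mres]

end Desc

section Final

variable {A B : Type u} [CommRing A] [CommRing B] [Algebra A B] [Module.Finite A B] {I : Ideal A}
  {X Y : LocallyRingedSpace.{u}} {πA : X ⟶ specLRS A} (hX : IsSph A I X πA)
  {πB : Y ⟶ specLRS B} (hY : IsSph B (I.map (algebraMap A B)) Y πB) {φ : Y ⟶ X}
  (hφ : φ ≫ πA = πB ≫ (Spec.map (CommRingCat.ofHom (algebraMap A B))).toLRSHom)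
  (N : ModuleCat.{u} B)

include hX hY hφ in
theorem exists_iso : ∃ e : sphTilde πA ((ModuleCat.restrictScalars (algebraMap A B)).obj N) ≅
        (pushMod φ).obj (sphTilde πB N),
      ∀ n : N, app e.hom ⊤ (theta πA ((ModuleCat.restrictScalars (algebraMap A B)).obj N) n) =
        theta πB N n := by
  let NA : ModuleCat.{u} A := (ModuleCat.restrictScalars (algebraMap A B)).obj N
  let _ : Module B NA := inferInstanceAs (Module B N)
  have : IsScalarTower A B NA := IsScalarTower.of_algebraMap_smul fun _ _ => rfl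
  let θB : NA →ₗ[B] MW πB (sphTilde πB N) ⊤ := theta πB N
  let θ : NA →ₗ[A] MW πA ((pushMod φ).obj (sphTilde πB N)) ⊤ := thP hφ (sphTilde πB N) θB
  obtain ⟨k, hk⟩ := exists_desc NA ((pushMod φ).obj (sphTilde πB N)) θ
  have h1 : IsIso k := by
    refine isIso_of_appW hX k fun f => ?_
    have h2 := cmp_push_bijective hφ (sphTilde πB N) θB I hX hY (cmpSt_bijective πB N) f
    have h3 := sec_bijective hX NA f
    have h4 : (appW πA k (dOpen πA f)) ∘ (cmp πA (theta πA NA) (dOpen πA f)) =
        cmp πA θ (dOpen πA f) := funext fun z => appW_cmp k (theta πA NA) θ hk _ z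
    have h5 : Function.Bijective
        ((appW πA k (dOpen πA f)) ∘ (cmp πA (theta πA NA) (dOpen πA f))) := by
      rw [h4]
      exact h2
    exact (Function.Bijective.of_comp_iff _ h3).mp h5
  exact ⟨asIso k, hk⟩

end Final

end K145.ModPush
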