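import Groth.Agent.HensSch.K941.PullStalk
import Groth.Agent.HensSch.K941.SphStalk
import Groth.Agent.HensSch.K941.StalkExact
import Groth.Agent.Hensel.K145.ModGlue

/-!
# Sections of quasi-coherent modules on affine Henselian spectra

`(X, π)` the affine Henselian spectrum of `(A, I)`, `F` a sheaf of modules with a linear map
`θ : M → Γ(X, F)` inducing isomorphisms `O_{X,x} ⊗ M → F_x`.  Then `O(D(f)) ⊗ M → F(D(f))` is
bijective for every `f`.
-/

set_option autoImplicit false
set_option linter.unusedVariables false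
universe u
open CategoryTheory AlgebraicGeometry TopologicalSpace Opposite TensorProduct

namespace K145.ModSec

open K941.Sky K941.Sph K145.Away HensSch

section Basic

variable {A : Type u} [CommRing A] {X : LocallyRingedSpace.{u}} (π : X ⟶ HensSch.specLRS A)

/-- Sections of the structure sheaf over `W`, as an `A`-algebra. -/
def OW (_π : X ⟶ HensSch.specLRS A) (W : Opens X) : Type u := X.presheaf.obj (op W)

noncomputable instance (W : Opens X) : CommRing (OW π W) :=
  inferInstanceAs (CommRing (X.presheaf.obj (op W)))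

/-- The structure map. -/
noncomputable def glob (W : Opens X) : A →+* OW π W :=
  (X.presheaf.map (homOfLE le_top : W ⟶ (Opens.map π.base).obj ⊤).op).hom.comp
    (HensSch.secMap π ⊤)

noncomputable instance (W : Opens X) : Algebra A (OW π W) := (glob π W).toAlgebra

theorem glob_apply (W : Opens X) (a : A) : algebraMap A (OW π W) a =
  X.presheaf.map (homOfLE le_top : W ⟶ (Opens.map π.base).obj ⊤).op (HensSch.secMap π ⊤ a) := rfl

theorem algebraMap_eq (U : Opens (PrimeSpectrum A)) :
    algebraMap A (OW π ((Opens.map π.base).obj U)) = HensSch.secMap π U := by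
  ext a
  refine (secMap_res' π (homOfLE le_top) (𝟙 _) a).trans ?_
  exact ConcreteCategory.congr_hom (X.presheaf.map_id _) _

/-- Restriction of sections. -/
noncomputable def res {V W : Opens X} (h : V ≤ W) : OW π W →ₐ[A] OW π V :=
  { (X.presheaf.map (homOfLE h).op).hom with
    commutes' := fun a => by
      have := ConcreteCategory.congr_hom (X.presheaf.map_comp
        (homOfLE le_top : W ⟶ (Opens.map π.base).obj ⊤).op (homOfLE h).op) (HensSch.secMap π ⊤ a)
      exact this.symm }

theorem res_apply {V W : Opens X} (h : V ≤ W) (s : OW π W) :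
    res π h s = X.presheaf.map (homOfLE h).op s := rfl

theorem res_res {U V W : Opens X} (h : V ≤ W) (h' : U ≤ V) (s : OW π W) :
    res π h' (res π h s) = res π (h'.trans h) s :=
  (ConcreteCategory.congr_hom (X.presheaf.map_comp (homOfLE h).op (homOfLE h').op) s).symm

theorem res_self {W : Opens X} (s : OW π W) : res π le_rfl s = s :=
  ConcreteCategory.congr_hom (X.presheaf.map_id (op W)) s

/-- The local ring as an `A`-algebra. -/
def St (_π : X ⟶ HensSch.specLRS A) (x : X) : Type u := X.presheaf.stalk x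

noncomputable instance (x : X) : CommRing (St π x) :=
  inferInstanceAs (CommRing (X.presheaf.stalk x))

instance (x : X) : IsLocalRing (St π x) := inferInstanceAs (IsLocalRing (X.presheaf.stalk x))

noncomputable instance (x : X) : Algebra A (St π x) := (toStalk π x).toAlgebra

/-- The germ map. -/
noncomputable def ger {W : Opens X} {x : X} (hx : x ∈ W) : OW π W →ₐ[A] St π x :=
  { (X.presheaf.germ W x hx).hom with
    commutes' := fun a => by
      refine (TopCat.Presheaf.germ_res_apply X.presheaf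
        (homOfLE le_top : W ⟶ (Opens.map π.base).obj ⊤) x hx (HensSch.secMap π ⊤ a)).trans ?_
      exact germ_secMap π ⊤ x trivial a }

theorem ger_apply {W : Opens X} {x : X} (hx : x ∈ W) (s : OW π W) :
    ger π hx s = X.presheaf.germ W x hx s := rfl

theorem ger_res {V W : Opens X} (h : V ≤ W) {x : X} (hx : x ∈ V) (s : OW π W) :
    ger π hx (res π h s) = ger π (h hx) s :=
  TopCat.Presheaf.germ_res_apply X.presheaf (homOfLE h) x hx s

theorem exists_ger {x : X} (t : St π x) : ∃ (W : Opens X) (hx : x ∈ W) (s : OW π W),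
    ger π hx s = t := by
  obtain ⟨U, hU, t, rfl⟩ := TopCat.Presheaf.exists_germ_eq X.presheaf t
  exact ⟨U, hU, t, rfl⟩

theorem ger_zero {W : Opens X} {x : X} (hx : x ∈ W) (s : OW π W) (hs : ger π hx s = 0) :
    ∃ (V : Opens X) (h : V ≤ W) (_ : x ∈ V), res π h s = 0 := by
  obtain ⟨V, hV, i₁, i₂, h5⟩ := TopCat.Presheaf.germ_eq X.presheaf x hx hx s 0
    ((show X.presheaf.germ W x hx s = 0 from hs).trans (map_zero _).symm)
  refine ⟨V, leOfHom i₁, hV, ?_⟩
  exact h5.trans (map_zero _)

variable (F : SMod X)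

/-- Sections of a sheaf of modules. -/
def MW (_π : X ⟶ HensSch.specLRS A) (F : SMod X) (W : Opens X) : Type u := (pr F).obj (op W)

noncomputable instance (W : Opens X) : AddCommGroup (MW π F W) :=
  inferInstanceAs (AddCommGroup ((pr F).obj (op W)))

noncomputable instance (W : Opens X) : Module (OW π W) (MW π F W) :=
  inferInstanceAs (Module (X.presheaf.obj (op W)) ((pr F).obj (op W)))

noncomputable instance (W : Opens X) : Module A (MW π F W) := Module.compHom _ (glob π W)

instance (W : Opens X) : IsScalarTower A (OW π W) (MW π F W) :=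
  IsScalarTower.of_algebraMap_smul fun _ _ => rfl

/-- additive restriction -/
noncomputable def mresAdd {V W : Opens X} (h : V ≤ W) : MW π F W →+ MW π F V :=
  ((pr F).map (homOfLE h).op).hom

theorem mresAdd_smul {V W : Opens X} (h : V ≤ W) (s : OW π W) (m : MW π F W) :
    mresAdd π F h (s • m) = res π h s • mresAdd π F h m :=
  pre_map_smul F.val (homOfLE h) s m

/-- Restriction. -/
noncomputable def mres {V W : Opens X} (h : V ≤ W) : MW π F W →ₗ[A] MW π F V :=
  { mresAdd π F h with
    map_smul' := fun a m => by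
      change mresAdd π F h (a • m) = a • mresAdd π F h m
      rw [← algebraMap_smul (OW π W) a m, mresAdd_smul, AlgHom.commutes, algebraMap_smul] }

theorem mres_apply {V W : Opens X} (h : V ≤ W) (m : MW π F W) :
    mres π F h m = (pr F).map (homOfLE h).op m := rfl

theorem mres_smul {V W : Opens X} (h : V ≤ W) (s : OW π W) (m : MW π F W) :
    mres π F h (s • m) = res π h s • mres π F h m := mresAdd_smul π F h s m

theorem mres_mres {U V W : Opens X} (h : V ≤ W) (h' : U ≤ V) (s : MW π F W) :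
    mres π F h' (mres π F h s) = mres π F (h'.trans h) s :=
  (ConcreteCategory.congr_hom ((pr F).map_comp (homOfLE h).op (homOfLE h').op) s).symm

theorem mres_self {W : Opens X} (s : MW π F W) : mres π F le_rfl s = s :=
  ConcreteCategory.congr_hom ((pr F).map_id (op W)) s

/-- The stalk of a sheaf of modules. -/
def MSt (_π : X ⟶ HensSch.specLRS A) (F : SMod X) (x : X) : Type u := (pr F).stalk x

noncomputable instance (x : X) : AddCommGroup (MSt π F x) :=
  inferInstanceAs (AddCommGroup ((pr F).stalk x))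

noncomputable instance (x : X) : Module (St π x) (MSt π F x) :=
  inferInstanceAs (Module (X.presheaf.stalk x) ((pr F).stalk x))

noncomputable instance (x : X) : Module A (MSt π F x) :=
  Module.compHom _ (algebraMap A (St π x))

instance (x : X) : IsScalarTower A (St π x) (MSt π F x) :=
  IsScalarTower.of_algebraMap_smul fun _ _ => rfl

/-- additive germ -/
noncomputable def mgerAdd {W : Opens X} {x : X} (hx : x ∈ W) : MW π F W →+ MSt π F x :=
  ((pr F).germ W x hx).hom

theorem mgerAdd_smul {W : Opens X} {x : X} (hx : x ∈ W) (s : OW π W) (m : MW π F W) :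
    mgerAdd π F hx (s • m) = ger π hx s • mgerAdd π F hx m :=
  pre_germ_smul F.val x W hx s m

/-- Germs. -/
noncomputable def mger {W : Opens X} {x : X} (hx : x ∈ W) : MW π F W →ₗ[A] MSt π F x :=
  { mgerAdd π F hx with
    map_smul' := fun a m => by
      change mgerAdd π F hx (a • m) = a • mgerAdd π F hx m
      rw [← algebraMap_smul (OW π W) a m, mgerAdd_smul, AlgHom.commutes, algebraMap_smul] }

theorem mger_apply {W : Opens X} {x : X} (hx : x ∈ W) (m : MW π F W) :
    mger π F hx m = (pr F).germ W x hx m := rfl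

theorem mger_smul {W : Opens X} {x : X} (hx : x ∈ W) (s : OW π W) (m : MW π F W) :
    mger π F hx (s • m) = ger π hx s • mger π F hx m := mgerAdd_smul π F hx s m

theorem mger_mres {V W : Opens X} (h : V ≤ W) {x : X} (hx : x ∈ V) (s : MW π F W) :
    mger π F hx (mres π F h s) = mger π F (h hx) s :=
  TopCat.Presheaf.germ_res_apply (pr F) (homOfLE h) x hx s

theorem exists_mger {x : X} (t : MSt π F x) : ∃ (W : Opens X) (hx : x ∈ W) (s : MW π F W),
    mger π F hx s = t := by
  obtain ⟨U, hU, t, rfl⟩ := TopCat.Presheaf.exists_germ_eq (pr F) t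
  exact ⟨U, hU, t, rfl⟩

theorem mger_zero {W : Opens X} {x : X} (hx : x ∈ W) (s : MW π F W) (hs : mger π F hx s = 0) :
    ∃ (V : Opens X) (h : V ≤ W) (_ : x ∈ V), mres π F h s = 0 := by
  obtain ⟨V, hV, i₁, i₂, h5⟩ := TopCat.Presheaf.germ_eq (pr F) x hx hx s 0
    ((show (pr F).germ W x hx s = 0 from hs).trans (map_zero _).symm)
  refine ⟨V, leOfHom i₁, hV, ?_⟩
  exact h5.trans (map_zero _)

theorem mext {W : Opens X} {s t : MW π F W}
    (h : ∀ (x : X) (hx : x ∈ W), mger π F hx s = mger π F hx t) : s = t :=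
  K941.StalkExact.section_ext F W s t h

section Cmp

variable {F} {M : Type u} [AddCommGroup M] [Module A M] (θ : M →ₗ[A] MW π F ⊤)

/-- The comparison map on sections. -/
noncomputable def cmp (W : Opens X) : OW π W ⊗[A] M →ₗ[OW π W] MW π F W :=
  ((mres π F (le_top : W ≤ ⊤)).comp θ).liftBaseChange (OW π W)

theorem cmp_tmul (W : Opens X) (s : OW π W) (m : M) :
    cmp π θ W (s ⊗ₜ m) = s • mres π F le_top (θ m) :=
  LinearMap.liftBaseChange_tmul _ _ _ _

/-- The comparison map on stalks. -/
noncomputable def cmpSt (x : X) : St π x ⊗[A] M →ₗ[St π x] MSt π F x :=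
  ((mger π F (show x ∈ (⊤ : Opens X) from trivial)).comp θ).liftBaseChange (St π x)

theorem cmpSt_tmul (x : X) (s : St π x) (m : M) :
    cmpSt π θ x (s ⊗ₜ m) = s • mger π F (show x ∈ (⊤ : Opens X) from trivial) (θ m) :=
  LinearMap.liftBaseChange_tmul _ _ _ _

theorem cmp_res {V W : Opens X} (h : V ≤ W) (z : OW π W ⊗[A] M) :
    cmp π θ V ((res π h).toLinearMap.rTensor M z) = mres π F h (cmp π θ W z) := by
  induction z with
  | zero => simp
  | add x y hx hy => simp only [map_add, hx, hy]
  | tmul s m =>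
    rw [LinearMap.rTensor_tmul, cmp_tmul, cmp_tmul, mres_smul, mres_mres]
    rfl

theorem cmp_ger {W : Opens X} {x : X} (hx : x ∈ W) (z : OW π W ⊗[A] M) :
    cmpSt π θ x ((ger π hx).toLinearMap.rTensor M z) = mger π F hx (cmp π θ W z) := by
  induction z with
  | zero => simp
  | add x y hx hy => simp only [map_add, hx, hy]
  | tmul s m =>
    rw [LinearMap.rTensor_tmul, cmp_tmul, cmpSt_tmul, mger_smul, mger_mres]
    rfl

/-- Elements of the tensor product with the local ring come from a neighbourhood. -/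
theorem exists_tensor {x : X} (z : St π x ⊗[A] M) : ∃ (W : Opens X) (hx : x ∈ W)
    (w : OW π W ⊗[A] M), (ger π hx).toLinearMap.rTensor M w = z := by
  induction z with
  | zero => exact ⟨⊤, trivial, 0, map_zero _⟩
  | tmul s m =>
    obtain ⟨W, hx, s, rfl⟩ := exists_ger π s
    exact ⟨W, hx, s ⊗ₜ m, rfl⟩
  | add x y hx hy =>
    obtain ⟨W, hW, w, rfl⟩ := hx
    obtain ⟨W', hW', w', rfl⟩ := hy
    refine ⟨W ⊓ W', ⟨hW, hW'⟩, (res π inf_le_left).toLinearMap.rTensor M w +
      (res π inf_le_right).toLinearMap.rTensor M w', ?_⟩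
    rw [map_add, ← LinearMap.comp_apply, ← LinearMap.comp_apply, ← LinearMap.rTensor_comp,
      ← LinearMap.rTensor_comp]
    exact congrArg₂ (· + ·) rfl rfl |>.trans (congrArg₂ (· + ·)
      (congrArg (fun l => LinearMap.rTensor M l w) (LinearMap.ext fun y => ger_res π _ _ y))
      (congrArg (fun l => LinearMap.rTensor M l w') (LinearMap.ext fun y => ger_res π _ _ y)))

/-- Elements dying in the tensor product with the local ring die on a neighbourhood. -/
theorem tensor_zero {W : Opens X} {x : X} (hx : x ∈ W) (z : OW π W ⊗[A] M)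
    (hz : (ger π hx).toLinearMap.rTensor M z = 0) :
    ∃ (V : Opens X) (h : V ≤ W) (_ : x ∈ V), (res π h).toLinearMap.rTensor M z = 0 := by
  let κ := {V : Opens X // x ∈ V}ᵒᵈ
  have : Nonempty κ := ⟨⟨⊤, trivial⟩⟩
  have : IsDirectedOrder κ := ⟨fun a b => ⟨⟨a.1 ⊓ b.1, ⟨a.2, b.2⟩⟩,
    (inf_le_left : a.1 ⊓ b.1 ≤ a.1), (inf_le_right : a.1 ⊓ b.1 ≤ b.1)⟩⟩
  obtain ⟨b, h, hb⟩ := K145.ModGlue.exists_stage (A := A) (κ := κ) (fun V => OW π V.1)
    (fun a b h => (res π h).toLinearMap) (fun a x => res_self π x)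
    (fun a b c h h' x => res_res π h h' x) (St π x) (fun a => (ger π a.2).toLinearMap)
    (fun a b h y => ger_res π h b.2 y) (fun t => by
      obtain ⟨W, hW, s, hs⟩ := exists_ger π t
      exact ⟨⟨W, hW⟩, s, hs⟩) (fun a y hy => by
      obtain ⟨V, h, hV, h'⟩ := ger_zero π a.2 y hy
      exact ⟨⟨V, hV⟩, h, h'⟩) M ⟨W, hx⟩ z hz
  exact ⟨b.1, h, b.2, hb⟩

end Cmp

end Basic

section Cancel

variable {A S H : Type u} [CommRing A] [CommRing S] [CommRing H] [Algebra A S] [Algebra S H]
  [Algebra A H] [IsScalarTower A S H] (M : Type u) [AddCommGroup M] [Module A M]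

/-- `(S ⊗ M) ⊗ H = H ⊗ M`. -/
noncomputable def can : (S ⊗[A] M) ⊗[S] H ≃ₗ[S] H ⊗[A] M :=
  TensorProduct.comm S (S ⊗[A] M) H ≪≫ₗ
    (AlgebraTensorModule.cancelBaseChange A S H H M).restrictScalars S

theorem can_tmul_tmul (s : S) (m : M) (h : H) :
    can M ((s ⊗ₜ[A] m) ⊗ₜ[S] h) = (s • h) ⊗ₜ[A] m := by
  change (AlgebraTensorModule.cancelBaseChange A S H H M) (h ⊗ₜ[S] (s ⊗ₜ[A] m)) = _
  rw [AlgebraTensorModule.cancelBaseChange_tmul]

theorem can_tmul (z : S ⊗[A] M) : can M (z ⊗ₜ[S] (1 : H)) =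
    (IsScalarTower.toAlgHom A S H).toLinearMap.rTensor M z := by
  induction z with
  | zero => rw [TensorProduct.zero_tmul, map_zero, map_zero]
  | add x y hx hy => rw [TensorProduct.add_tmul, map_add, map_add, hx, hy]
  | tmul s m =>
    rw [can_tmul_tmul, ← Algebra.algebraMap_eq_smul_one]
    rfl

theorem can_map {H' : Type u} [CommRing H'] [Algebra S H'] [Algebra A H'] [IsScalarTower A S H']
    (φ : H →ₐ[S] H') (w : (S ⊗[A] M) ⊗[S] H) :
    can M (φ.toLinearMap.lTensor (S ⊗[A] M) w) =
      (φ.restrictScalars A).toLinearMap.rTensor M (can M w) := by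
  induction w with
  | zero => simp only [map_zero]
  | add x y hx hy => simp only [map_add, hx, hy]
  | tmul z h =>
    rw [LinearMap.lTensor_tmul]
    induction z with
    | zero => simp only [TensorProduct.zero_tmul, map_zero]
    | add x y hx hy => simp only [TensorProduct.add_tmul, map_add, hx, hy]
    | tmul s m =>
      rw [can_tmul_tmul, can_tmul_tmul, LinearMap.rTensor_tmul]
      change _ = (φ (s • h)) ⊗ₜ[A] m
      rw [map_smul]
      rfl

end Cancel

section Main

variable {A : Type u} [CommRing A] {X : LocallyRingedSpace.{u}} {π : X ⟶ HensSch.specLRS A}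
  {I : Ideal A} (hX : HensSch.IsSph A I X π) {M : Type u} [AddCommGroup M] [Module A M]

include hX in
theorem lph (f : A) : LPH I f (OW π (dOpen π f)) := by
  have h := hX.2.2 f
  have e : algebraMap A (OW π (dOpen π f)) = secMap π (PrimeSpectrum.basicOpen f) := algebraMap_eq π _
  refine ⟨?_, ?_, ?_⟩
  · rw [e]; exact h.2.1
  · rw [e]; exact h.1
  · intro D _ J g hD hJ hu
    rw [e]
    exact h.2.2 D J g hD hJ hu

include hX in
theorem cov (f : A) {ι : Type*} (g : ι → A)
    (hc : ∀ x ∈ dOpen π f, ∃ i, x ∈ dOpen π (g i)) :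
    I.map (algebraMap A (OW π (dOpen π f))) ⊔
      Ideal.span (Set.range fun i => algebraMap A (OW π (dOpen π f)) (g i)) = ⊤ := by
  by_contra hne
  obtain ⟨m, hm, hle⟩ := Ideal.exists_le_maximal _ hne
  have hp : (m.comap (algebraMap A (OW π (dOpen π f)))).IsPrime := Ideal.comap_isPrime _ _
  obtain ⟨x, hx⟩ := exists_point hX ⟨m.comap (algebraMap A (OW π (dOpen π f))), hp⟩
    (Ideal.map_le_iff_le_comap.mp (le_sup_left.trans hle))
  have hxf : x ∈ dOpen π f := by
    rw [mem_dOpen, hx]
    intro hf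
    exact hm.ne_top (Ideal.eq_top_of_isUnit_mem _ hf (lph hX f).leq.unit)
  obtain ⟨i, hi⟩ := hc x hxf
  rw [mem_dOpen, hx] at hi
  exact hi (hle (Ideal.mem_sup_right (Ideal.subset_span ⟨i, rfl⟩)))

include hX in
theorem exists_mem_of_cov (f : A) {ι : Type*} (g : ι → A)
    (hcov : I.map (algebraMap A (OW π (dOpen π f))) ⊔
      Ideal.span (Set.range fun i => algebraMap A (OW π (dOpen π f)) (g i)) = ⊤) (x : X)
    (hx : x ∈ dOpen π f) : ∃ i, x ∈ dOpen π (g i) := by
  by_contra hne
  push Not at hne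
  have h1 : ∀ a, IsUnit (ger π hx (algebraMap A (OW π (dOpen π f)) a)) ↔
      a ∉ (π.base x).asIdeal := by
    intro a
    rw [algebraMap_eq]
    exact isUnit_germ_secMap_iff π (PrimeSpectrum.basicOpen f) a x hx
  have h2 : ∀ a ∈ (π.base x).asIdeal, algebraMap A (OW π (dOpen π f)) a ∈
      (IsLocalRing.maximalIdeal (St π x)).comap (ger π hx) := by
    intro a ha
    rw [Ideal.mem_comap, IsLocalRing.mem_maximalIdeal, mem_nonunits_iff, h1]
    exact fun h => h ha
  have h3 : (⊤ : Ideal (OW π (dOpen π f))) ≤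
      (IsLocalRing.maximalIdeal (St π x)).comap (ger π hx) := by
    rw [← hcov, sup_le_iff, Ideal.map_le_iff_le_comap, Ideal.span_le]
    refine ⟨fun a ha => h2 a (le_asIdeal hX x ha), ?_⟩
    rintro _ ⟨i, rfl⟩
    refine h2 _ ?_
    have := hne i
    rw [mem_dOpen, not_not] at this
    exact this
  have h4 := h3 (Submodule.mem_top (x := 1))
  rw [Ideal.mem_comap, map_one] at h4
  exact (IsLocalRing.mem_maximalIdeal _).mp h4 isUnit_one

theorem dOpen_mul_left (g g' : A) : dOpen π (g * g') ≤ dOpen π g := fun x hx => by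
  rw [mem_dOpen] at hx ⊢
  exact fun h => hx (Ideal.mul_mem_right _ _ h)

theorem dOpen_mul_right (g g' : A) : dOpen π (g * g') ≤ dOpen π g' := fun x hx => by
  rw [mem_dOpen] at hx ⊢
  exact fun h => hx (Ideal.mul_mem_left _ _ h)

theorem mem_dOpen_mul {g g' : A} {x : X} (h : x ∈ dOpen π g) (h' : x ∈ dOpen π g') :
    x ∈ dOpen π (g * g') := by
  rw [mem_dOpen] at h h' ⊢
  exact fun hc => ((π.base x).2.mem_or_mem hc).elim h h'

include hX in
/-- Injectivity for tensor products. -/
theorem tensor_eq_zero (f : A) {ι : Type*} (g : ι → A) (hg : ∀ i, dOpen π (g i) ≤ dOpen π f)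
    (hc : ∀ x ∈ dOpen π f, ∃ i, x ∈ dOpen π (g i)) (z : OW π (dOpen π f) ⊗[A] M)
    (hz : ∀ i, (res π (hg i)).toLinearMap.rTensor M z = 0) : z = 0 := by
  let S := OW π (dOpen π f)
  have hS : HenselianRing S (I.map (algebraMap A S)) := (lph hX f).hens
  let _ : ∀ i, Algebra S (OW π (dOpen π (g i))) := fun i => (res π (hg i)).toRingHom.toAlgebra
  have : ∀ i, IsScalarTower A S (OW π (dOpen π (g i))) := fun i =>
    IsScalarTower.of_algebraMap_eq fun a => ((res π (hg i)).commutes a).symm
  refine K145.ModGlue.eq_zero (I.map (algebraMap A S)) (fun i => algebraMap A S (g i))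
    (cov hX f g hc) (fun i => OW π (dOpen π (g i)))
    (fun i => LPH.up' (lph hX f).leq (lph hX (g i))) (S ⊗[A] M) z fun i => ?_
  apply (can M (A := A) (S := S) (H := OW π (dOpen π (g i)))).injective
  rw [can_tmul, map_zero]
  exact hz i

include hX in
/-- Glueing for tensor products. -/
theorem tensor_glue (f : A) {ι : Type u} [Finite ι] (g : ι → A)
    (hg : ∀ i, dOpen π (g i) ≤ dOpen π f)
    (hc : ∀ x ∈ dOpen π f, ∃ i, x ∈ dOpen π (g i)) (z : ∀ i, OW π (dOpen π (g i)) ⊗[A] M)
    (hz : ∀ i j, (res π (dOpen_mul_left (g i) (g j))).toLinearMap.rTensor M (z i) =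
      (res π (dOpen_mul_right (g i) (g j))).toLinearMap.rTensor M (z j)) :
    ∃ w : OW π (dOpen π f) ⊗[A] M, ∀ i, (res π (hg i)).toLinearMap.rTensor M w = z i := by
  let S := OW π (dOpen π f)
  have hS : HenselianRing S (I.map (algebraMap A S)) := (lph hX f).hens
  let _ : ∀ i, Algebra S (OW π (dOpen π (g i))) := fun i => (res π (hg i)).toRingHom.toAlgebra
  have : ∀ i, IsScalarTower A S (OW π (dOpen π (g i))) := fun i =>
    IsScalarTower.of_algebraMap_eq fun a => ((res π (hg i)).commutes a).symm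
  have hgg : ∀ i j, dOpen π (g i * g j) ≤ dOpen π f := fun i j =>
    (dOpen_mul_left (g i) (g j)).trans (hg i)
  let _ : ∀ i j, Algebra S (OW π (dOpen π (g i * g j))) := fun i j =>
    (res π (hgg i j)).toRingHom.toAlgebra
  have : ∀ i j, IsScalarTower A S (OW π (dOpen π (g i * g j))) := fun i j =>
    IsScalarTower.of_algebraMap_eq fun a => ((res π (hgg i j)).commutes a).symm
  let σ : ∀ i j, OW π (dOpen π (g i)) →ₐ[S] OW π (dOpen π (g i * g j)) := fun i j =>
    { res π (dOpen_mul_left (g i) (g j)) with commutes' := fun s => res_res π _ _ s }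
  let τ : ∀ i j, OW π (dOpen π (g j)) →ₐ[S] OW π (dOpen π (g i * g j)) := fun i j =>
    { res π (dOpen_mul_right (g i) (g j)) with commutes' := fun s => res_res π _ _ s }
  obtain ⟨w, hw⟩ := K145.ModGlue.exists_section (I.map (algebraMap A S))
    (fun i => algebraMap A S (g i))
    (cov hX f g hc) (fun i => OW π (dOpen π (g i)))
    (fun i => LPH.up' (lph hX f).leq (lph hX (g i))) (fun i j => OW π (dOpen π (g i * g j)))
    (fun i j => by
      rw [← map_mul]
      exact LPH.up' (lph hX f).leq (lph hX (g i * g j))) σ τ (S ⊗[A] M)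
    (fun i => (can M (A := A) (S := S) (H := OW π (dOpen π (g i)))).symm (z i)) (fun i j => by
      apply (can M (A := A) (S := S) (H := OW π (dOpen π (g i * g j)))).injective
      rw [can_map, can_map, LinearEquiv.apply_symm_apply, LinearEquiv.apply_symm_apply]
      exact hz i j)
  refine ⟨w, fun i => ?_⟩
  have h1 := congrArg (can M (A := A) (S := S) (H := OW π (dOpen π (g i)))) (hw i)
  rw [LinearEquiv.apply_symm_apply, can_tmul] at h1
  exact h1

theorem exists_finset_cov {S : Type*} [CommRing S] (J : Ideal S) {ι : Type*} (g : ι → S)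
    (h : J ⊔ Ideal.span (Set.range g) = ⊤) :
    ∃ T : Finset ι, J ⊔ Ideal.span (Set.range fun i : {i // i ∈ T} => g i.1) = ⊤ := by
  have h1 : (1 : S) ∈ J ⊔ Ideal.span (Set.range g) := by rw [h]; trivial
  obtain ⟨j, hj, s, hs, hjs⟩ := Submodule.mem_sup.mp h1
  obtain ⟨c, hc⟩ := (Finsupp.mem_ideal_span_range_iff_exists_finsupp).mp hs
  refine ⟨c.support, ?_⟩
  rw [Ideal.eq_top_iff_one, ← hjs]
  refine Ideal.add_mem _ (Ideal.mem_sup_left hj) (Ideal.mem_sup_right ?_)
  rw [← hc, Finsupp.sum]
  exact Ideal.sum_mem _ fun i hi => Ideal.mul_mem_left _ _ (Ideal.subset_span ⟨⟨i, hi⟩, rfl⟩)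

variable {F : SMod X} (θ : M →ₗ[A] MW π F ⊤) (hθ : ∀ x, Function.Bijective (cmpSt π θ x))

include hX hθ in
theorem cmp_injective (f : A) : Function.Injective (cmp π θ (dOpen π f)) := by
  rw [injective_iff_map_eq_zero]
  intro z hz
  have h1 : ∀ x : {x : X // x ∈ dOpen π f}, ∃ (g : A) (h : dOpen π g ≤ dOpen π f),
      x.1 ∈ dOpen π g ∧ (res π h).toLinearMap.rTensor M z = 0 := by
    intro ⟨x, hx⟩
    have h2 : (ger π hx).toLinearMap.rTensor M z = 0 :=
      (hθ x).1 (by rw [cmp_ger, hz, map_zero, map_zero])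
    obtain ⟨V, h, hV, h3⟩ := tensor_zero π hx z h2
    obtain ⟨g, hg, hgV⟩ := exists_dOpen_le hX V x hV
    refine ⟨g, hgV.trans h, hg, ?_⟩
    have : (res π (hgV.trans h)).toLinearMap =
        (res π hgV).toLinearMap.comp (res π h).toLinearMap :=
      LinearMap.ext fun y => (res_res π _ _ y).symm
    rw [this, LinearMap.rTensor_comp, LinearMap.comp_apply, h3, map_zero]
  choose g hg hx hz using h1
  exact tensor_eq_zero hX f g hg (fun x hx' => ⟨⟨x, hx'⟩, hx ⟨x, hx'⟩⟩) z hz

include hX hθ in
theorem cmp_surjective (f : A) : Function.Surjective (cmp π θ (dOpen π f)) := by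
  intro t
  have h1 : ∀ x : {x : X // x ∈ dOpen π f}, ∃ (g : A) (h : dOpen π g ≤ dOpen π f),
      x.1 ∈ dOpen π g ∧ ∃ z : OW π (dOpen π g) ⊗[A] M, cmp π θ _ z = mres π F h t := by
    intro ⟨x, hx⟩
    obtain ⟨w, hw⟩ := (hθ x).2 (mger π F hx t)
    obtain ⟨W, hW, w, rfl⟩ := exists_tensor π w
    rw [cmp_ger] at hw
    have hxV : x ∈ W ⊓ dOpen π f := ⟨hW, hx⟩
    have h2 : mger π F hxV (mres π F inf_le_left (cmp π θ W w) - mres π F inf_le_right t) = 0 := by
      rw [map_sub, mger_mres, mger_mres, hw, sub_self]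
    obtain ⟨V', h, hV', h3⟩ := mger_zero π F _ _ h2
    obtain ⟨g, hg, hgV⟩ := exists_dOpen_le hX V' x hV'
    refine ⟨g, hgV.trans (h.trans inf_le_right), hg,
      (res π (hgV.trans (h.trans inf_le_left))).toLinearMap.rTensor M w, ?_⟩
    rw [cmp_res]
    have h4 := congrArg (mres π F hgV) h3
    rw [map_zero, map_sub, map_sub, mres_mres, mres_mres, mres_mres, mres_mres, sub_eq_zero] at h4
    exact h4
  choose g hg hx z hz using h1
  have hcov := cov hX f g (fun x hx' => ⟨⟨x, hx'⟩, hx ⟨x, hx'⟩⟩)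
  obtain ⟨T, hT⟩ := exists_finset_cov _ _ hcov
  have hc : ∀ x ∈ dOpen π f, ∃ i : {i // i ∈ T}, x ∈ dOpen π (g i.1) := fun x hx' =>
    exists_mem_of_cov hX f (fun i : {i // i ∈ T} => g i.1) hT x hx'
  obtain ⟨w, hw⟩ := tensor_glue hX f (fun i : {i // i ∈ T} => g i.1) (fun i => hg i.1) hc
    (fun i => z i.1) (fun i j => by
      apply cmp_injective hX θ hθ (g i.1 * g j.1)
      rw [cmp_res, cmp_res, hz, hz, mres_mres, mres_mres])
  refine ⟨w, mext π F fun x hx' => ?_⟩
  obtain ⟨i, hi⟩ := hc x hx'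
  rw [← mger_mres π F (hg i.1) hi, ← mger_mres π F (hg i.1) hi, ← cmp_res, hw, hz]

include hX hθ in
/-- The sections of `F` over a distinguished open. -/
theorem cmp_bijective (f : A) : Function.Bijective (cmp π θ (dOpen π f)) :=
  ⟨cmp_injective hX θ hθ f, cmp_surjective hX θ hθ f⟩

end Main

end K145.ModSec
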