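import Groth.Agent.HensSch.K145.ModSec

/-!
# Sections of `M~` on affine Henselian spectra
-/

set_option autoImplicit false
set_option linter.unusedVariables false
universe u
open CategoryTheory AlgebraicGeometry TopologicalSpace Opposite TensorProduct

namespace K145.ModTilde

open K941.Sky K941.Sph K941.PullStalk K145.Away K145.ModSec HensSch

section Alg

variable {A R T : Type u} [CommRing A] [CommRing R] [CommRing T] [Algebra A R] [Algebra R T]
  [Algebra A T] [IsScalarTower A R T]
  {M N O : Type u} [AddCommGroup M] [AddCommGroup N] [AddCommGroup O] [Module A M] [Module A N]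
  [Module R N] [IsScalarTower A R N] [Module A O] [Module R O] [Module T O] [IsScalarTower R T O]
  [IsScalarTower A R O] [IsScalarTower A T O]

theorem bijective_of_isBaseChange {f : M →ₗ[A] N} (hf : IsBaseChange R f) {g : N →ₗ[R] O}
    (hg : IsBaseChange T g) (φ : T ⊗[A] M →ₗ[T] O) (hφ : ∀ t m, φ (t ⊗ₜ m) = t • g (f m)) :
    Function.Bijective φ := by
  have h := hf.comp hg
  have h1 : φ = h.equiv.toLinearMap := by
    apply LinearMap.restrictScalars_injective A
    apply TensorProduct.ext'
    intro t m
    change φ (t ⊗ₜ m) = h.equiv (t ⊗ₜ m)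
    rw [hφ, IsBaseChange.equiv_tmul]
    rfl
  rw [h1]
  exact h.equiv.bijective

end Alg

variable {A : Type u} [CommRing A] {X : LocallyRingedSpace.{u}} (π : X ⟶ HensSch.specLRS A)

/-- the map `M → Γ(Spec A, M~)` -/
noncomputable def tl (M : ModuleCat.{u} A) : M →+ (pr (X := specLRS A) (tilde M)).obj (op ⊤) where
  toFun m := ((tilde.adjunction (R := CommRingCat.of A)).unit.app M).hom m
  map_zero' := map_zero _
  map_add' := map_add _

theorem tl_smul (M : ModuleCat.{u} A) (a : A) (m : M) : tl M (a • m) =
    (HSMul.hSMul (α := (specLRS A).presheaf.obj (op ⊤))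
      (β := (pr (X := specLRS A) (tilde M)).obj (op ⊤))
      ((Scheme.ΓSpecIso (CommRingCat.of A)).inv a) (tl M m)) := by
  have h1 := ((tilde.adjunction (R := CommRingCat.of A)).unit.app M).hom.map_smul a m
  exact h1

/-- additive version -/
noncomputable def thetaAdd (M : ModuleCat.{u} A) : M →+ MW π (sphTilde π M) ⊤ :=
  (app ((pullPushAdj π).unit.app (tilde M)) ⊤).toAddMonoidHom.comp (tl M)

theorem c_app_eq (a : A) : (π.c.app (op ⊤) ((Scheme.ΓSpecIso (CommRingCat.of A)).inv a) : OW π ⊤) =
    algebraMap A (OW π ⊤) a := by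
  refine Eq.trans ?_ (RingHom.congr_fun (algebraMap_eq π ⊤) a).symm
  exact (ConcreteCategory.congr_hom (X.presheaf.map_id _) _).symm

theorem thetaAdd_smul (M : ModuleCat.{u} A) (a : A) (m : M) :
    thetaAdd π M (a • m) = a • thetaAdd π M m := by
  refine (congrArg (app ((pullPushAdj π).unit.app (tilde M)) ⊤) (tl_smul M a m)).trans ?_
  refine ((app ((pullPushAdj π).unit.app (tilde M)) ⊤).map_smul _ _).trans ?_
  rw [← algebraMap_smul (OW π ⊤) a]
  exact congrArg (fun s : OW π ⊤ => s • thetaAdd π M m) (c_app_eq π a)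

/-- The canonical map `M → Γ(X, M~)`. -/
noncomputable def theta (M : ModuleCat.{u} A) : M →ₗ[A] MW π (sphTilde π M) ⊤ :=
  { thetaAdd π M with map_smul' := thetaAdd_smul π M }

theorem theta_apply (M : ModuleCat.{u} A) (m : M) : theta π M m =
  (((HensSch.pullPushAdj π).unit.app (tilde M)).val.app (op ⊤)).hom
            (((tilde.adjunction (R := CommRingCat.of A)).unit.app M).hom m) := rfl

theorem mger_theta (M : ModuleCat.{u} A) (m : M) (x : X) :
    mger π (sphTilde π M) (show x ∈ (⊤ : Opens X) from trivial) (theta π M m) =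
      canAdd π (tilde M) x ((pr (X := specLRS A) (tilde M)).germ ⊤ (π.base x) trivial (tl M m)) :=
  (canAdd_germ π (tilde M) x ⊤ trivial (tl M m)).symm

/-- the stalk map `M → (M~)_p` (categorical form) -/
theorem isLocalizedModule_aux {R : CommRingCat.{u}} (M : ModuleCat.{u} R) (p : PrimeSpectrum R) :
    ∃ (f : (M : Type u) →+ (tilde M).presheaf.stalk p),
      (∀ m, f m = (tilde M).presheaf.germ ⊤ p trivial
        ((tilde.adjunction (R := R)).unit.app M m)) ∧
      ∃ h : ∀ (a : R) (m : M), f (a • m) = a • f m,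
      IsLocalizedModule p.asIdeal.primeCompl
        ({ f with map_smul' := h } : (M : Type u) →ₗ[R] (tilde M).presheaf.stalk p) := by
  refine ⟨(tilde.toStalk M p).hom.toAddMonoidHom, fun m => rfl, fun a m =>
    (tilde.toStalk M p).hom.map_smul a m, ?_⟩
  exact (inferInstance : IsLocalizedModule p.asIdeal.primeCompl (tilde.toStalk M p).hom)

/-- the stalk map `M → (M~)_p` -/
theorem isLocalizedModule_tl (M : ModuleCat.{u} A) (p : PrimeSpectrum A) :
    ∃ (f : (M : Type u) →+ (pr (X := specLRS A) (tilde M)).stalk p),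
      (∀ m, f m = (pr (X := specLRS A) (tilde M)).germ ⊤ p trivial (tl M m)) ∧
      letI := Module.compHom ((pr (X := specLRS A) (tilde M)).stalk p) (specStalk p)
      ∃ h : ∀ (a : A) (m : M), f (a • m) = a • f m,
      IsLocalizedModule p.asIdeal.primeCompl
        ({ f with map_smul' := h } : (M : Type u) →ₗ[A] (pr (X := specLRS A) (tilde M)).stalk p) :=
  isLocalizedModule_aux (R := CommRingCat.of A) M p

/-- The comparison map on stalks is bijective. -/
theorem cmpSt_bijective (M : ModuleCat.{u} A) (x : X) :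
    Function.Bijective (cmpSt π (theta π M) x) := by
  let p : PrimeSpectrum A := π.base x
  let _ : Algebra A ((specLRS A).presheaf.stalk p) := (specStalk p).toAlgebra
  let _ : Algebra ((specLRS A).presheaf.stalk p) (St π x) := (π.stalkMap x).hom.toAlgebra
  have : IsScalarTower A ((specLRS A).presheaf.stalk p) (St π x) :=
    IsScalarTower.of_algebraMap_eq fun _ => rfl
  let _ : Module A ((pr (X := specLRS A) (tilde M)).stalk p) := Module.compHom _ (specStalk p)
  have : IsScalarTower A ((specLRS A).presheaf.stalk p) ((pr (X := specLRS A) (tilde M)).stalk p) :=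
    IsScalarTower.of_algebraMap_smul fun _ _ => rfl
  let _ : Module ((specLRS A).presheaf.stalk p) (MSt π (sphTilde π M) x) :=
    modOver π (sphTilde π M) x
  have : IsScalarTower ((specLRS A).presheaf.stalk p) (St π x) (MSt π (sphTilde π M) x) :=
    K941.PullStalk.isScalarTower π (sphTilde π M) x
  have : IsScalarTower A ((specLRS A).presheaf.stalk p) (MSt π (sphTilde π M) x) :=
    IsScalarTower.of_algebraMap_smul fun _ _ => rfl
  have : IsLocalization p.asIdeal.primeCompl ((specLRS A).presheaf.stalk p) :=
    specStalk_isLocalization p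
  obtain ⟨f, hf, h, hloc⟩ := isLocalizedModule_tl M p
  have hf' : IsBaseChange ((specLRS A).presheaf.stalk p)
      ({ f with map_smul' := h } : (M : Type u) →ₗ[A] (pr (X := specLRS A) (tilde M)).stalk p) :=
    @IsLocalizedModule.isBaseChange _ _ p.asIdeal.primeCompl ((specLRS A).presheaf.stalk p)
      _ _ _ _ _ _ _ _ _ _ _ _ hloc
  let g : (pr (X := specLRS A) (tilde M)).stalk p →ₗ[(specLRS A).presheaf.stalk p]
    (MSt π (sphTilde π M) x) := can π (tilde M) x
  have hg : IsBaseChange (St π x) g := isBaseChange_can π (tilde M) x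
  refine bijective_of_isBaseChange hf' hg (cmpSt π (theta π M) x) fun t m => ?_
  rw [cmpSt_tmul]
  refine congrArg (fun z : MSt π (sphTilde π M) x => t • z) ?_
  exact (mger_theta π M m x).trans (congrArg (canAdd π (tilde M) x) (hf m).symm)


section Sec

variable {π} {I : Ideal A} (hX : HensSch.IsSph A I X π) (M : ModuleCat.{u} A)

include hX in
/-- The sections of `M~` over `D(f)` are `O(D(f)) ⊗ M`. -/
theorem sec_bijective (f : A) : Function.Bijective (cmp π (theta π M) (dOpen π f)) :=
  cmp_bijective hX _ (cmpSt_bijective π M) f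

end Sec

section Univ

theorem existsUnique {A S : Type u} [CommRing A] [CommRing S] [Algebra A S]
    {M N : Type u} [AddCommGroup M] [AddCommGroup N] [Module A M] [Module S N] (θ : M → N)
    (e : S ⊗[A] M →ₗ[S] N) (he : Function.Bijective e) (he' : ∀ s m, e (s ⊗ₜ m) = s • θ m)
    (P : Type u) [AddCommGroup P] [Module S P] (ψ : M →+ P)
    (hψ : ∀ (a : A) m, ψ (a • m) = algebraMap A S a • ψ m) :
    ∃! χ : N →ₗ[S] P, ∀ m, χ (θ m) = ψ m := by
  let _ : Module A P := Module.compHom P (algebraMap A S)
  have : IsScalarTower A S P := IsScalarTower.of_algebraMap_smul fun _ _ => rfl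
  let ψ' : M →ₗ[A] P := { ψ with map_smul' := hψ }
  let e' := LinearEquiv.ofBijective e he
  refine ⟨(ψ'.liftBaseChange S).comp e'.symm.toLinearMap, fun m => ?_, fun χ hχ => ?_⟩
  · have h1 : e'.symm (θ m) = 1 ⊗ₜ m := by
      rw [LinearEquiv.symm_apply_eq]
      change _ = e (1 ⊗ₜ m)
      rw [he', one_smul]
    change ψ'.liftBaseChange S (e'.symm (θ m)) = _
    rw [h1, LinearMap.liftBaseChange_tmul, one_smul]
    rfl
  · have h2 : χ.comp e = ψ'.liftBaseChange S := by
      apply LinearMap.restrictScalars_injective A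
      apply TensorProduct.ext'
      intro s m
      change χ (e (s ⊗ₜ m)) = ψ'.liftBaseChange S (s ⊗ₜ m)
      rw [he', map_smul, hχ, LinearMap.liftBaseChange_tmul]
      rfl
    rw [← h2]
    ext n
    change χ n = χ (e (e'.symm n))
    exact congrArg χ (e'.apply_symm_apply n).symm

end Univ

end K145.ModTilde
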